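import Groth.Agent.DispLib.BaseChange
import Mathlib.RingTheory.Flat.FaithfullyFlat.Algebra

/-!
# Descent of homomorphisms of displays along faithfully flat ring maps
-/

set_option autoImplicit false

universe u v

open TensorProduct

namespace Groth.Agent.MiscTwoH99.DispDesc

open W4c1extbt610 Groth.Agent.DispLib

variable {p : ℕ} [Fact p.Prime] {S R : Type u} [CommRing S] [CommRing R] [Algebra S R] [Module.FaithfullyFlat S R]

theorem mem_range_of_tmul_one_eq (x : R) (h : x ⊗ₜ[S] (1 : R) = (1 : R) ⊗ₜ[S] x) :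
    x ∈ Set.range (algebraMap S R) := by
  let N : Submodule S R := LinearMap.range (Algebra.linearMap S R)
  have h1 := congrArg (LinearMap.lTensor R N.mkQ) h
  rw [LinearMap.lTensor_tmul, LinearMap.lTensor_tmul, show N.mkQ (1 : R) = 0 from
    (Submodule.Quotient.mk_eq_zero N).mpr ⟨1, map_one (algebraMap S R)⟩, TensorProduct.tmul_zero] at h1
  have h2 := Module.FaithfullyFlat.tensorProduct_mk_injective (A := S) (B := R) (R ⧸ N)
    (show (1 : R) ⊗ₜ[S] N.mkQ x = (1 : R) ⊗ₜ[S] (0 : R ⧸ N) by rw [← h1, TensorProduct.tmul_zero])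
  exact (Submodule.Quotient.mk_eq_zero N).mp h2

local notation "φ" => (WittVector.map (algebraMap S R) : WittVector p S →+* WittVector p R)

theorem map_injective : Function.Injective φ :=
  WittVector.map_injective _ (FaithfulSMul.algebraMap_injective S R)

theorem witt_mem_range {w : WittVector p R}
    (h : ∀ n, (w.coeff n) ⊗ₜ[S] (1 : R) = (1 : R) ⊗ₜ[S] (w.coeff n)) : w ∈ Set.range φ := by
  choose a ha using fun n => mem_range_of_tmul_one_eq (w.coeff n) (h n)
  exact ⟨WittVector.mk p a, WittVector.ext fun n => by rw [WittVector.map_coeff, WittVector.coeff_mk, ha]⟩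

section Coord

variable {P : Type v} [AddCommGroup P] [Module (WittVector p S) P] {n : ℕ}
  (s : P →ₗ[WittVector p S] (Fin n → WittVector p S)) (e : Fin n → P) (hse : ∀ x, ∑ i, s x i • e i = x)

include s e hse in
theorem iota_injective : Function.Injective (fun x : P => Dieu.BC.tmul φ 1 x) := by
  intro x y hxy
  rw [← hse x, ← hse y]
  refine Finset.sum_congr rfl fun i _ => ?_
  congr 1
  apply map_injective (R := R)
  have h1 := congrArg (DispBC.coord (algebraMap S R) s i) hxy
  simpa [DispBC.coord_tmul] using h1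

include s e hse in
theorem mem_range_iota {T : Type u} [CommRing T] (g₁ g₂ : WittVector p R →+* WittVector p T)
    (g : WittVector p S →+* WittVector p T) (e₁ : g₁.comp φ = g) (e₂ : g₂.comp φ = g)
    (heq : ∀ w, g₁ w = g₂ w → w ∈ Set.range φ) (z : Dieu.BC φ P)
    (hz : Dieu.BC.castHom (P := P) e₁ (Dieu.BC.push φ g₁ z) = Dieu.BC.castHom (P := P) e₂ (Dieu.BC.push φ g₂ z)) :
    ∃ y : P, Dieu.BC.tmul φ 1 y = z := by
  have hco : ∀ (gi : WittVector p R →+* WittVector p T) (ei : gi.comp φ = g) (i : Fin n) (z : Dieu.BC φ P),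
      Dieu.BC.lift g ((Dieu.semilinearOfRingHom g).comp ((LinearMap.proj i).comp s))
        (Dieu.BC.castHom (P := P) ei (Dieu.BC.push φ gi z)) = gi (DispBC.coord (algebraMap S R) s i z) := by
    intro gi ei i z
    induction z using Dieu.BC.induction_on with
    | zero => simp
    | tmul b x =>
      rw [Dieu.BC.push_tmul, Dieu.BC.castHom_tmul, Dieu.BC.lift_tmul, DispBC.coord_tmul, map_mul]
      subst ei
      rfl
    | add a b ha hb => simp only [map_add, ha, hb]
  have hc : ∀ i, DispBC.coord (algebraMap S R) s i z ∈ Set.range φ := fun i => heq _ (by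
    rw [← hco g₁ e₁ i z, ← hco g₂ e₂ i z, hz])
  choose a ha using hc
  refine ⟨∑ i, a i • e i, ?_⟩
  conv_rhs => rw [← DispBC.sum_coord (algebraMap S R) s e hse z]
  rw [← Dieu.BC.ι_apply, map_sum]
  refine Finset.sum_congr rfl fun i _ => ?_
  rw [LinearMap.map_smulₛₗ, Dieu.BC.ι_apply, ← ha i]

end Coord

theorem exists_dual {P : Type v} [AddCommGroup P] [Module (WittVector p S) P] (D : Display3n p S P) :
    ∃ (n : ℕ) (s : P →ₗ[WittVector p S] (Fin n → WittVector p S)) (e : Fin n → P), ∀ x, ∑ i, s x i • e i = x := by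
  haveI := D.finite
  haveI := D.projective
  obtain ⟨n, π, hπ⟩ := Module.Finite.exists_fin' (WittVector p S) P
  obtain ⟨s, hs⟩ := Module.projective_lifting_property π LinearMap.id hπ
  refine ⟨n, s, fun i => π (Pi.single i 1), fun x => ?_⟩
  conv_rhs => rw [← show π (s x) = x from LinearMap.congr_fun hs x, pi_eq_sum_univ' (s x)]
  simp

/-- `Q` is recovered from `Q_R`. -/
theorem mem_Q_of_tmul_mem {P : Type v} [AddCommGroup P] [Module (WittVector p S) P] (D : Display3n p S P)
    (DR : Display3n p R (Dieu.BC φ P)) (hDR : Dieu.IsDispBaseChange (algebraMap S R) D DR) (y : P)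
    (hy : Dieu.BC.tmul φ 1 y ∈ DR.Q) : y ∈ D.Q := by
  classical
  obtain ⟨n, s, e, hse⟩ := exists_dual D
  obtain ⟨L, T, hLT, hQ⟩ := D.exists_normal
  let τ : P →ₗ[WittVector p S] P := T.subtype.comp (T.projectionOnto L hLT.symm)
  let g := (WittVector.constantCoeff : WittVector p R →+* R).comp φ
  have hcc : ∀ i, ∀ q ∈ D.Q, algebraMap S R (WittVector.constantCoeff (s (τ q) i)) = 0 := by
    intro i q hq
    rw [hQ] at hq
    obtain ⟨l, hl, t, ht, rfl⟩ := Submodule.mem_sup.mp hq
    have hl0 : τ l = 0 := by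
      simp [τ, (Submodule.projectionOnto_apply_eq_zero_iff hLT.symm).mpr hl]
    rw [map_add, hl0, zero_add]
    clear hq
    induction ht using Submodule.smul_induction_on' with
    | smul a ha t _ =>
      rw [map_smul, map_smul, Pi.smul_apply, smul_eq_mul, map_mul, (mem_IV_iff a).mp ha, zero_mul, map_zero]
    | add a _ b _ ha hb => rw [map_add, map_add, Pi.add_apply, map_add, map_add, ha, hb, add_zero]
  let θ : (i : Fin n) → (P ⧸ D.Q) →ₛₗ[g] R := fun i => D.Q.liftQ
    ({ toFun := fun x => algebraMap S R (WittVector.constantCoeff (s (τ x) i))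
       map_add' := fun a b => by rw [map_add, map_add, Pi.add_apply, map_add, map_add]
       map_smul' := fun a x => by
         rw [map_smul, map_smul, Pi.smul_apply, smul_eq_mul, map_mul, map_mul, smul_eq_mul]
         rfl } : P →ₛₗ[g] R) fun q hq => hcc i q hq
  have h0 : ∀ i, WittVector.constantCoeff (s (τ y) i) = 0 := fun i => by
    rw [hDR.Q_eq, LinearMap.mem_ker, Dieu.bcQuotMap_tmul, map_one] at hy
    have h1 := congrArg (Dieu.BC.lift g (θ i)) hy
    rw [Dieu.BC.lift_tmul, one_smul, map_zero] at h1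
    exact (map_eq_zero_iff _ (FaithfulSMul.algebraMap_injective S R)).mp h1
  have hτ : τ (τ y) = τ y := by
    simp [τ]
  have hmem : τ y ∈ IV p S • T := by
    have h2 := congrArg τ (hse (τ y))
    rw [hτ] at h2
    rw [← h2, map_sum]
    exact sum_mem fun i _ => by
      rw [map_smul]
      exact Submodule.smul_mem_smul ((mem_IV_iff _).mpr (h0 i)) (Submodule.coe_mem _)
  rw [hQ, ← sub_add_cancel y (τ y)]
  refine Submodule.add_mem_sup ?_ hmem
  rw [← Submodule.projectionOnto_apply_eq_zero_iff hLT.symm]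
  apply Subtype.ext
  rw [ZeroMemClass.coe_zero, show ((T.projectionOnto L hLT.symm (y - τ y)) : P) = τ (y - τ y) from rfl, map_sub, hτ,
    sub_self]

theorem tmul_mem_Q {P : Type v} [AddCommGroup P] [Module (WittVector p S) P] (D : Display3n p S P)
    (DR : Display3n p R (Dieu.BC φ P)) (hDR : Dieu.IsDispBaseChange (algebraMap S R) D DR) {y : P} (hy : y ∈ D.Q) :
    Dieu.BC.tmul φ 1 y ∈ DR.Q := by
  rw [hDR.Q_eq, LinearMap.mem_ker, Dieu.bcQuotMap_tmul, Submodule.mkQ_apply,
    (Submodule.Quotient.mk_eq_zero _).mpr hy, Dieu.BC.tmul_zero]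

end Groth.Agent.MiscTwoH99.DispDesc
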